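import Groth.Agent.S2363
import Groth.Agent.GeomPts.Realize
import Groth.Agent.AdicLim.Noetherian
import Mathlib

/-!
Complete discrete valuation rings with prescribed residue field extension, and finite extensions of
complete discrete valuation rings with algebraically closed residue field.
-/

universe u

open IsLocalRing

namespace Groth.Agent.CompleteDvr

/-- A complete discrete valuation ring dominating a given one with prescribed residue field. -/
theorem exists_complete_dvr_residue (R : Type u) [CommRing R] [IsDomain R] [IsDiscreteValuationRing R]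
    (K : Type u) [Field K] [Algebra (ResidueField R) K] :
    ∃ (A : Type u) (_ : CommRing A) (_ : IsDomain A) (_ : IsDiscreteValuationRing A) (ι : R →+* A)
      (_ : IsLocalHom ι) (_ : IsAdicComplete (maximalIdeal A) A) (ε : ResidueField A ≃+* K),
      Function.Injective ι ∧ ∀ r, ε (residue A (ι r)) = algebraMap (ResidueField R) K (residue R r) := by
  obtain ⟨B, _, _, hBn, hBl, hBlh, hBflat, e, he⟩ := Groth.Agent.S2363.result (A := R) K
  obtain ⟨ϖ, hϖ⟩ := IsDiscreteValuationRing.exists_irreducible R
  let b : B := algebraMap R B ϖ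
  have hb : maximalIdeal B = Ideal.span {b} := by
    have hmax : ((maximalIdeal R).map (algebraMap R B)).IsMaximal :=
      Ideal.Quotient.maximal_of_isField _ (e.toMulEquiv.isField (Field.toIsField _))
    rw [← IsLocalRing.eq_maximalIdeal hmax, hϖ.maximalIdeal_eq, Ideal.map_span, Set.image_singleton]
  have hmap : (maximalIdeal R).map (algebraMap R B) = maximalIdeal B := by
    rw [hb, hϖ.maximalIdeal_eq, Ideal.map_span, Set.image_singleton]
  let A := AdicCompletion (maximalIdeal B) B
  have hfg : (maximalIdeal B).FG := IsNoetherian.noetherian _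
  have : IsNoetherianRing (B ⧸ maximalIdeal B) := inferInstance
  have hAn : IsNoetherianRing A := Groth.Agent.ResExt.isNoetherianRing_adicCompletion _ hfg
  have hmA : maximalIdeal A = (maximalIdeal B).map (algebraMap B A) := AdicCompletion.maximalIdeal_eq_map
  have hcomp : IsAdicComplete (maximalIdeal A) A := by
    have : IsAdicComplete (maximalIdeal B) A := AdicCompletion.isAdicComplete hfg
    rw [hmA]
    exact (IsAdicComplete.map_algebraMap_iff _ _).2 this
  let a : A := algebraMap B A b
  have ha : maximalIdeal A = Ideal.span {a} := by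
    rw [hmA]
    exact (congrArg (Ideal.map (algebraMap B A)) hb).trans (by rw [Ideal.map_span, Set.image_singleton])
  have hregB : IsSMulRegular B b := (IsRegular.of_ne_zero hϖ.ne_zero).isSMulRegular.of_flat
  have : Module.Flat B A := AdicCompletion.flat_of_isNoetherian _
  obtain ⟨hAd, hAdvr⟩ := Groth.Agent.GeomPts.isDomain_and_isDiscreteValuationRing ha hregB.of_flat
  let ι : R →+* A := (algebraMap B A).comp (algebraMap R B)
  have hloc : IsLocalHom (algebraMap B A) := ⟨fun x hx ↦ by
    by_contra hu
    have : algebraMap B A x ∈ maximalIdeal A := hmA ▸ Ideal.mem_map_of_mem _ ((mem_maximalIdeal x).mpr hu)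
    exact this hx⟩
  have hιl : IsLocalHom ι := RingHom.isLocalHom_comp _ _
  have hker : RingHom.ker (AdicCompletion.evalOneₐ (maximalIdeal B)).toRingHom = maximalIdeal A := by
    rw [AdicCompletion.ker_evalOneₐ_eq_map _ hfg, hmA]
  let ε : ResidueField A ≃+* K :=
    ((Ideal.quotEquivOfEq hker.symm).trans
      (RingHom.quotientKerEquivOfSurjective (AdicCompletion.evalOneₐ_surjective (maximalIdeal B)))).trans
      ((Ideal.quotEquivOfEq hmap.symm).trans e)
  refine ⟨A, inferInstance, hAd, hAdvr, ι, hιl, hcomp, ε, ?_, fun r ↦ ?_⟩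
  · refine (injective_iff_map_eq_zero _).mpr fun r hr ↦ ?_
    by_contra hne
    obtain ⟨n, u, rfl⟩ := IsDiscreteValuationRing.eq_unit_mul_pow_irreducible hne hϖ
    have ha0 : a ≠ 0 := fun h ↦ IsDiscreteValuationRing.not_a_field A (by rw [ha, h, Ideal.span_singleton_zero])
    rw [map_mul, map_pow] at hr
    exact (mul_ne_zero (u.isUnit.map ι).ne_zero (pow_ne_zero n ha0)) hr
  · rw [← he r]
    show e (Ideal.quotEquivOfEq hmap.symm ((AdicCompletion.evalOneₐ (maximalIdeal B))
      (algebraMap B A (algebraMap R B r)))) = _
    rw [AlgHom.commutes]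
    rfl

/-- Residue fields of valuation rings in an algebraic extension are algebraic. -/
theorem residue_surjective_of_isAlgClosed {A : Type u} [CommRing A] [IsDomain A] [IsDiscreteValuationRing A]
    [IsAlgClosed (ResidueField A)] {L : Type u} [Field L] [Algebra A L] [Algebra (FractionRing A) L]
    [IsScalarTower A (FractionRing A) L] [Algebra.IsAlgebraic (FractionRing A) L]
    {R : ValuationSubring L} (φ : A →+* R) [IsLocalHom φ] (hφ : ∀ a, (φ a : L) = algebraMap A L a) :
    Function.Surjective (ResidueField.map φ) := by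
  letI : Algebra (ResidueField A) (ResidueField R) := (ResidueField.map φ).toAlgebra
  have halg : Algebra.IsAlgebraic A L :=
    (IsFractionRing.comap_isAlgebraic_iff (A := A) (K := FractionRing A) (C := L)).mpr inferInstance
  have : Algebra.IsAlgebraic (ResidueField A) (ResidueField R) := ⟨fun z ↦ by
    obtain ⟨r, rfl⟩ := IsLocalRing.residue_surjective z
    obtain ⟨p, hp0, hp⟩ := halg.isAlgebraic (r : L)
    obtain ⟨ϖ, hϖ⟩ := IsDiscreteValuationRing.exists_irreducible A
    -- divide the coefficients by the largest common power of the uniformiser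
    obtain ⟨q, hq0, hq⟩ : ∃ q : Polynomial A, q.map (residue A) ≠ 0 ∧ Polynomial.aeval (r : L) q = 0 := by
      obtain ⟨_⟩ : Nonempty (NormalizedGCDMonoid A) := inferInstance
      obtain ⟨c, q, hqp, hpc⟩ : ∃ (c : A) (q : Polynomial A), q.IsPrimitive ∧ p = Polynomial.C c * q :=
        ⟨p.content, p.primPart, p.isPrimitive_primPart, p.eq_C_content_mul_primPart⟩
      refine ⟨q, fun h ↦ ?_, ?_⟩
      · have : Polynomial.C ϖ ∣ q := by
          rw [Polynomial.C_dvd_iff_dvd_coeff]
          intro i
          rw [← Ideal.mem_span_singleton, ← hϖ.maximalIdeal_eq, ← IsLocalRing.residue_eq_zero_iff,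
            ← Polynomial.coeff_map, h, Polynomial.coeff_zero]
        exact hϖ.not_isUnit (hqp ϖ this)
      · rw [hpc, map_mul, Polynomial.aeval_C] at hp
        refine (mul_eq_zero.mp hp).resolve_left ?_
        intro hc
        rw [IsScalarTower.algebraMap_apply A (FractionRing A) L, map_eq_zero_iff _ (RingHom.injective _),
          map_eq_zero_iff _ (IsFractionRing.injective A (FractionRing A))] at hc
        exact hp0 (by rw [hpc, hc, Polynomial.C_0, zero_mul])
    refine ⟨q.map (residue A), hq0, ?_⟩
    have h1 : Polynomial.eval₂ φ r q = 0 := by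
      refine R.subtype_injective ?_
      rw [Polynomial.hom_eval₂, map_zero, show R.subtype.comp φ = algebraMap A L from RingHom.ext hφ]
      exact hq
    rw [Polynomial.aeval_def, Polynomial.eval₂_map]
    show Polynomial.eval₂ ((ResidueField.map φ).comp (residue A)) (residue R r) q = 0
    rw [ResidueField.map_comp_residue, ← Polynomial.hom_eval₂, h1, map_zero]⟩
  exact (IsAlgClosed.algebraMap_bijective_of_isIntegral (k := ResidueField A) (K := ResidueField R)).2

/-- A discrete valuation ring dominating a complete one with trivial residue extension is finite over it. -/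
theorem finite_of_residue_surjective {A R : Type u} [CommRing A] [IsDomain A] [IsDiscreteValuationRing A]
    [IsAdicComplete (maximalIdeal A) A] [CommRing R] [IsDomain R] [IsDiscreteValuationRing R]
    (φ : A →+* R) [IsLocalHom φ] (hinj : Function.Injective φ) (hres : Function.Surjective (ResidueField.map φ)) :
    φ.Finite := by
  obtain ⟨ϖ, hϖ⟩ := IsDiscreteValuationRing.exists_irreducible A
  obtain ⟨t, ht⟩ := IsDiscreteValuationRing.exists_irreducible R
  obtain ⟨e, u, heu⟩ := IsDiscreteValuationRing.eq_unit_mul_pow_irreducible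
    ((map_ne_zero_iff _ hinj).mpr hϖ.ne_zero) ht
  letI := φ.toAlgebra
  have hmax : (maximalIdeal A).map φ = Ideal.span {t ^ e} := by
    rw [hϖ.maximalIdeal_eq, Ideal.map_span, Set.image_singleton, heu, mul_comm]
    exact (Ideal.span_singleton_mul_right_unit u.isUnit _)
  -- the map `A ^ e → R`
  let f : (Fin e → A) →ₗ[A] R := Fintype.linearCombination A (fun i : Fin e ↦ t ^ (i : ℕ))
  have happ : ∀ r : R, ∀ k ≤ e, ∃ c : ℕ → A, r - ∑ i ∈ Finset.range k, φ (c i) * t ^ i ∈ Ideal.span {t ^ k} := by
    intro r k hk
    induction k with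
    | zero => exact ⟨fun _ ↦ 0, by simp⟩
    | succ k ih =>
      obtain ⟨c, hc⟩ := ih (by omega)
      obtain ⟨w, hw⟩ := Ideal.mem_span_singleton'.mp hc
      obtain ⟨a, ha⟩ := hres (residue R w)
      obtain ⟨a, rfl⟩ := IsLocalRing.residue_surjective a
      rw [ResidueField.map_residue] at ha
      have hd : w - φ a ∈ Ideal.span {t} := by
        rw [← ht.maximalIdeal_eq, ← IsLocalRing.residue_eq_zero_iff, map_sub, ha, sub_self]
      obtain ⟨d, hd⟩ := Ideal.mem_span_singleton'.mp hd
      refine ⟨Function.update c k a, Ideal.mem_span_singleton'.mpr ⟨d, ?_⟩⟩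
      rw [Finset.sum_range_succ, Function.update_self,
        Finset.sum_congr rfl (fun i hi ↦ by
          rw [Function.update_of_ne (Finset.mem_range.mp hi).ne])]
      linear_combination hw + t ^ k * hd
  have hsurj : Function.Surjective f := by
    have : IsHausdorff (maximalIdeal A) R := by
      rw [← IsHausdorff.map_algebraMap_iff (S := R), RingHom.algebraMap_toAlgebra, hmax]
      refine ⟨fun x hx ↦ ?_⟩
      by_contra hne
      obtain ⟨n, v, rfl⟩ := IsDiscreteValuationRing.eq_unit_mul_pow_irreducible hne ht
      have h1 := hx (n + 1)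
      rw [smul_eq_mul, Ideal.mul_top, SModEq.zero, Ideal.span_singleton_pow, Ideal.mem_span_singleton,
        mul_comm, (v.isUnit).dvd_mul_right] at h1
      have he : 1 ≤ e := by
        by_contra h0
        obtain rfl : e = 0 := by omega
        rw [pow_zero, mul_one] at heu
        exact hϖ.not_isUnit (isUnit_of_map_unit φ ϖ (heu ▸ u.isUnit))
      rw [← pow_mul, pow_dvd_pow_iff ht.ne_zero ht.not_isUnit] at h1
      have : n + 1 ≤ e * (n + 1) := Nat.le_mul_of_pos_left _ he
      omega
    have : IsPrecomplete (maximalIdeal A) (Fin e → A) :=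
      (Groth.Agent.AdicLim.isAdicComplete_of_finite (maximalIdeal A) (Fin e → A)).toIsPrecomplete
    refine surjective_of_mkQ_comp_surjective (I := maximalIdeal A) fun z ↦ ?_
    obtain ⟨r, rfl⟩ := Submodule.mkQ_surjective _ z
    obtain ⟨c, hc⟩ := happ r e le_rfl
    refine ⟨fun i ↦ c i, (Submodule.Quotient.eq _).mpr ?_⟩
    rw [Ideal.smul_top_eq_map, Submodule.restrictScalars_mem, RingHom.algebraMap_toAlgebra, hmax]
    rw [← neg_mem_iff, neg_sub]
    convert hc using 2
    rw [Fintype.linearCombination_apply, Finset.sum_range]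
    rfl
  exact Module.Finite.of_surjective f hsurj

end Groth.Agent.CompleteDvr
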